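import Mathlib.GroupTheory.Solvable
import Mathlib.GroupTheory.Nilpotent
import Mathlib.GroupTheory.Index
import Mathlib.Topology.Irreducible
import Mathlib.Topology.KrullDimension

/-!
# Uniform bounds for derived length and class in groups with a Zariski-like topology
-/

set_option autoImplicit false

open scoped commutatorElement
open Topology

noncomputable section

namespace Groth.Agent.SolvLocus20

variable {M : Type*} [Group M] [TopologicalSpace M]

variable (M) in
/-- Translations, inversion and commutation with a fixed element are continuous. -/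
structure ZTop : Prop where
  left : ∀ a : M, Continuous (a * ·)
  right : ∀ a : M, Continuous (· * a)
  inv : Continuous (·⁻¹ : M → M)
  comm : ∀ y : M, Continuous (fun x : M => ⁅x, y⁆)
  one : IsClosed ({1} : Set M)

variable (hM : ZTop M)

include hM in
theorem ZTop.comm' (y : M) : Continuous (fun x : M => ⁅y, x⁆) := by
  simp_rw [← commutatorElement_inv _ y]
  exact hM.inv.comp (hM.comm y)

include hM in
theorem isIrreducible_mul {A B : Set M} (hA : IsIrreducible A) (hB : IsIrreducible B) :
    IsIrreducible (Set.image2 (· * ·) A B) := by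
  refine ⟨hA.nonempty.image2 hB.nonempty, isPreirreducible_iff_isClosed_union_isClosed.2 fun Z₁ Z₂ h1 h2 h => ?_⟩
  have hcl : ∀ Z : Set M, IsClosed Z → IsClosed {a : M | ∀ b ∈ B, a * b ∈ Z} := fun Z hZ => by
    simp only [Set.setOf_forall]
    exact isClosed_biInter fun b _ => hZ.preimage (hM.right b)
  have key : A ⊆ {a | ∀ b ∈ B, a * b ∈ Z₁} ∪ {a | ∀ b ∈ B, a * b ∈ Z₂} := by
    intro a ha
    have hsub : B ⊆ (a * ·) ⁻¹' Z₁ ∪ (a * ·) ⁻¹' Z₂ := fun b hb => h (Set.mem_image2_of_mem ha hb)
    exact (isPreirreducible_iff_isClosed_union_isClosed.1 hB.isPreirreducible _ _ (h1.preimage (hM.left a))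
      (h2.preimage (hM.left a)) hsub).imp (fun h b hb => h hb) fun h b hb => h hb
  refine (isPreirreducible_iff_isClosed_union_isClosed.1 hA.isPreirreducible _ _ (hcl _ h1) (hcl _ h2) key).imp
    (fun h => ?_) fun h => ?_ <;>
  · rintro _ ⟨a, ha, b, hb, rfl⟩
    exact h ha b hb

include hM in
/-- The group generated by commutators with an irreducible subgroup is irreducible. -/
theorem isIrreducible_commutator (A B : Subgroup M) (hA : IsIrreducible (A : Set M)) :
    IsIrreducible (↑⁅A, B⁆ : Set M) := by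
  let 𝓕 : Set (Set M) := {Z | IsIrreducible Z ∧ (1 : M) ∈ Z ∧ Z ⊆ ↑⁅A, B⁆}
  have hprod : ∀ Z ∈ 𝓕, ∀ Z' ∈ 𝓕, Set.image2 (· * ·) Z Z' ∈ 𝓕 := fun Z hZ Z' hZ' =>
    ⟨isIrreducible_mul hM hZ.1 hZ'.1, ⟨1, hZ.2.1, 1, hZ'.2.1, one_mul 1⟩, by
      rintro _ ⟨a, ha, b, hb, rfl⟩
      exact mul_mem (hZ.2.2 ha) (hZ'.2.2 hb)⟩
  have h1 : ({1} : Set M) ∈ 𝓕 :=
    ⟨isIrreducible_singleton, rfl, by rintro _ rfl; exact one_mem _⟩
  let U : Subgroup M :=
    { carrier := ⋃₀ 𝓕
      one_mem' := ⟨_, h1, rfl⟩
      mul_mem' := by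
        rintro a b ⟨Z, hZ, ha⟩ ⟨Z', hZ', hb⟩
        exact ⟨_, hprod Z hZ Z' hZ', Set.mem_image2_of_mem ha hb⟩
      inv_mem' := by
        rintro a ⟨Z, hZ, ha⟩
        exact ⟨_, ⟨hZ.1.image _ hM.inv.continuousOn, ⟨1, hZ.2.1, inv_one⟩, by
          rintro _ ⟨c, hc, rfl⟩; exact inv_mem (hZ.2.2 hc)⟩, a, ha, rfl⟩ }
  have hU : (↑⁅A, B⁆ : Set M) = ⋃₀ 𝓕 := by
    apply Set.Subset.antisymm
    · show ⁅A, B⁆ ≤ U
      rw [Subgroup.commutator_le]
      intro a ha b hb
      exact ⟨(fun x : M => ⁅x, b⁆) '' A, ⟨hA.image _ (hM.comm b).continuousOn, ⟨1, one_mem A, by simp⟩, by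
        rintro _ ⟨c, hc, rfl⟩; exact Subgroup.commutator_mem_commutator hc hb⟩, a, ha, rfl⟩
    · exact Set.sUnion_subset fun Z hZ => hZ.2.2
  refine ⟨⟨1, one_mem _⟩, ?_⟩
  rw [hU]
  intro u v hu hv ⟨x, ⟨Z, hZ, hxZ⟩, hxu⟩ ⟨y, ⟨Z', hZ', hyZ'⟩, hyv⟩
  obtain ⟨z, hz, hz'⟩ := (hprod Z hZ Z' hZ').1.isPreirreducible u v hu hv
    ⟨x, ⟨x, hxZ, 1, hZ'.2.1, mul_one x⟩, hxu⟩ ⟨y, ⟨1, hZ.2.1, y, hyZ', one_mul y⟩, hyv⟩
  exact ⟨z, ⟨_, hprod Z hZ Z' hZ', hz⟩, hz'⟩

/-- The closure of a subgroup. -/
def clSub (H : Subgroup M) : Subgroup M where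
  carrier := closure (H : Set M)
  one_mem' := subset_closure (one_mem H)
  mul_mem' := by
    intro a b ha hb
    have h1 : ∀ x ∈ H, x * b ∈ closure (H : Set M) := fun x hx =>
      map_mem_closure (hM.left x) hb fun y hy => mul_mem hx hy
    have h2 : (fun x : M => x * b) a ∈ closure (closure (H : Set M)) := map_mem_closure (f := fun x : M => x * b) (hM.right b) ha h1
    rwa [closure_closure] at h2
  inv_mem' := fun ha => map_mem_closure hM.inv ha fun _ hy => inv_mem hy

theorem le_clSub (H : Subgroup M) : H ≤ clSub hM H := subset_closure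

theorem clSub_mono {H K : Subgroup M} (h : H ≤ K) : clSub hM H ≤ clSub hM K := closure_mono h

theorem clSub_le {H K : Subgroup M} (h : H ≤ clSub hM K) : clSub hM H ≤ clSub hM K :=
  closure_minimal h isClosed_closure

theorem clSub_bot : clSub hM (⊥ : Subgroup M) = ⊥ := by
  refine le_antisymm (fun x hx => ?_) bot_le
  have h : x ∈ closure ({1} : Set M) := hx
  rwa [hM.one.closure_eq] at h

theorem commutator_clSub (A B : Subgroup M) : ⁅clSub hM A, clSub hM B⁆ ≤ clSub hM ⁅A, B⁆ := by
  rw [Subgroup.commutator_le]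
  intro a ha b hb
  have h1 : ∀ x ∈ A, ⁅x, b⁆ ∈ closure (↑⁅A, B⁆ : Set M) := fun x hx =>
    map_mem_closure (hM.comm' x) hb fun y hy => Subgroup.commutator_mem_commutator hx hy
  show ⁅a, b⁆ ∈ closure (↑⁅A, B⁆ : Set M)
  have h2 : (fun x : M => ⁅x, b⁆) a ∈ closure (closure (↑⁅A, B⁆ : Set M)) := map_mem_closure (f := fun x : M => ⁅x, b⁆) (hM.comm b) ha h1
  rwa [closure_closure] at h2

/-- A decreasing sequence of irreducible closed subgroups which is trivial once it stops reaches the
trivial group after dimension many steps. -/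
theorem eq_bot_of_chain (H : ℕ → Subgroup M) (hirr : ∀ i, IsIrreducible (H i : Set M))
    (hcl : ∀ i, IsClosed (H i : Set M)) (hle : ∀ i, H (i + 1) ≤ H i) (hstop : ∀ i, H (i + 1) = H i → H i = ⊥)
    {d : ℕ} (hd : topologicalKrullDim M ≤ d) : H d = ⊥ := by
  by_contra hne
  have hanti : Antitone H := antitone_nat_of_succ_le hle
  have hne' : ∀ i ≤ d, H i ≠ ⊥ := fun i hi e => hne (le_bot_iff.1 ((hanti hi).trans e.le))
  let p : LTSeries (TopologicalSpace.IrreducibleCloseds M) :=
    { length := d + 1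
      toFun := fun i => ⟨H (d + 1 - i.1), hirr _, hcl _⟩
      step := fun i => by
        have e : d + 1 - i.1 = (d - i.1) + 1 := by omega
        have hlt : H (d - i.1 + 1) < H (d - i.1) := lt_of_le_of_ne (hle _) fun h => hne' _ (by omega) (hstop _ h)
        show (⟨_, _, _⟩ : TopologicalSpace.IrreducibleCloseds M) < ⟨_, _, _⟩
        simp only [Fin.val_castSucc, Fin.val_succ, e, show d + 1 - (i.1 + 1) = d - i.1 by omega]
        exact hlt }
  have h : ((d + 1 : ℕ) : WithBot ℕ∞) ≤ topologicalKrullDim M := Order.LTSeries.length_le_krullDim p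
  exact absurd (h.trans hd) (not_le.2 (by exact_mod_cast Nat.lt_succ_self d))

/-- A decreasing sequence of subgroups of a finite group which stops once it repeats. -/
theorem eq_bot_of_finite {Q : Type*} [Group Q] [Finite Q] (f : ℕ → Subgroup Q) (hle : ∀ i, f (i + 1) ≤ f i)
    (hst : ∀ i, f (i + 1) = f i → f (i + 2) = f (i + 1)) {m : ℕ} (hm : f m = ⊥) {N : ℕ} (hN : Nat.card Q ≤ N) :
    f N = ⊥ := by
  have hanti : Antitone f := antitone_nat_of_succ_le hle
  have key : ∀ i, f i = ⊥ ∨ Nat.card (f i) + i ≤ Nat.card Q := by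
    intro i
    induction i with
    | zero => exact .inr (by simpa using Subgroup.card_le_card_group (f 0))
    | succ i ih =>
      rcases ih with h | h
      · exact .inl (le_bot_iff.1 ((hle i).trans h.le))
      by_cases he : f (i + 1) = f i
      · left
        have hall : ∀ j, f (i + j + 1) = f (i + j) := by
          intro j
          induction j with
          | zero => exact he
          | succ j ihj => exact hst _ ihj
        have hconst : ∀ j, f (i + j) = f i := by
          intro j
          induction j with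
          | zero => rfl
          | succ j ihj => exact (hall j).trans ihj
        rw [he, ← hconst m]
        exact le_bot_iff.1 ((hanti (Nat.le_add_left m i)).trans hm.le)
      · right
        have hlt : Nat.card (f (i + 1)) < Nat.card (f i) := by
          refine lt_of_not_ge fun hge => he ?_
          exact Subgroup.eq_of_le_of_card_ge (hle i) hge
        omega
  rcases key N with h | h
  · exact h
  · have := Nat.card_pos (α := f N); omega

variable (M₀ : Subgroup M) [M₀.Normal] [Finite (M ⧸ M₀)] (hirr : IsIrreducible (M₀ : Set M))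
  (hcl₀ : IsClosed (M₀ : Set M)) {N d : ℕ} (hN : Nat.card (M ⧸ M₀) ≤ N) (hd : topologicalKrullDim M ≤ d)

include hM hirr hcl₀ hN hd in
/-- A uniform bound for the derived length. -/
theorem derivedSeries_bound (h : ∃ n, derivedSeries M n = ⊥) : derivedSeries M (N + d) = ⊥ := by
  obtain ⟨n, hn⟩ := h
  let π := QuotientGroup.mk' M₀
  have hπ : Function.Surjective π := QuotientGroup.mk'_surjective M₀
  have h0 : derivedSeries (M ⧸ M₀) N = ⊥ := by
    refine eq_bot_of_finite (derivedSeries (M ⧸ M₀)) (fun i => derivedSeries_antitone _ (Nat.le_succ i))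
      (fun i hi => ?_) (m := n) ?_ hN
    · rw [derivedSeries_succ _ (i + 1), hi, ← derivedSeries_succ, hi]
    · rw [← map_derivedSeries_eq hπ, hn, Subgroup.map_bot]
  have hN0 : derivedSeries M N ≤ M₀ := by
    rw [← map_derivedSeries_eq hπ, Subgroup.map_eq_bot_iff, QuotientGroup.ker_mk'] at h0
    exact h0
  let H : ℕ → Subgroup M := fun i => Nat.rec M₀ (fun _ K => clSub hM ⁅K, K⁆) i
  have hH : ∀ i, H (i + 1) = clSub hM ⁅H i, H i⁆ := fun _ => rfl
  have hirr' : ∀ i, IsIrreducible (SetLike.coe (H i)) := by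
    intro i
    induction i with
    | zero => exact hirr
    | succ i ih => rw [hH]; exact (isIrreducible_commutator hM _ _ ih).closure
  have hcl : ∀ i, IsClosed (SetLike.coe (H i)) := fun i => by cases i with
    | zero => exact hcl₀
    | succ i => exact isClosed_closure
  have hle : ∀ i, H (i + 1) ≤ H i := fun i =>
    closure_minimal (show ⁅H i, H i⁆ ≤ H i from Subgroup.commutator_le.2 fun a ha b hb => by
      rw [commutatorElement_def]; exact mul_mem (mul_mem (mul_mem ha hb) (inv_mem ha)) (inv_mem hb)) (hcl i)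
  have hbot : H d = ⊥ := eq_bot_of_chain H hirr' hcl hle (fun i hi => by
    have key : ∀ m, H i ≤ clSub hM (derivedSeries M m) := by
      intro m
      induction m with
      | zero => exact fun x _ => le_clSub hM _ (by simp [derivedSeries_zero])
      | succ m ih =>
        rw [← hi, hH, derivedSeries_succ]
        exact clSub_le hM ((Subgroup.commutator_mono ih ih).trans (commutator_clSub hM _ _))
    have := key n
    rwa [hn, clSub_bot, le_bot_iff] at this) hd
  have hsub : ∀ i, derivedSeries M (N + i) ≤ H i := by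
    intro i
    induction i with
    | zero => exact hN0
    | succ i ih =>
      rw [← add_assoc, derivedSeries_succ, hH]
      exact (Subgroup.commutator_mono ih ih).trans (le_clSub hM _)
  exact le_bot_iff.1 ((hsub d).trans hbot.le)

include hM hirr hcl₀ hN hd in
/-- A uniform bound for the nilpotency class. -/
theorem upperCentralSeries_bound (h : ∃ n, Subgroup.upperCentralSeries M n = ⊤) :
    Subgroup.upperCentralSeries M (N + d) = ⊤ := by
  obtain ⟨n, hn⟩ := h
  rw [← Subgroup.lowerCentralSeries_eq_bot_iff_upperCentralSeries_eq_top] at hn ⊢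
  let γ : ℕ → Subgroup M := (⊤ : Subgroup M).lowerCentralSeries
  have hγ : ∀ i, γ (i + 1) = ⁅γ i, (⊤ : Subgroup M)⁆ := fun i => Subgroup.lowerCentralSeries_succ _ i
  let π := QuotientGroup.mk' M₀
  have hπ : Function.Surjective π := QuotientGroup.mk'_surjective M₀
  have hmap : ∀ i, (γ i).map π = (⊤ : Subgroup (M ⧸ M₀)).lowerCentralSeries i := fun i => by
    induction i with
    | zero => simp [γ, Subgroup.map_top_of_surjective _ hπ]
    | succ i ih => rw [hγ, Subgroup.map_commutator, ih, Subgroup.map_top_of_surjective _ hπ, Subgroup.lowerCentralSeries_succ]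
  have h0 : (⊤ : Subgroup (M ⧸ M₀)).lowerCentralSeries N = ⊥ := by
    refine eq_bot_of_finite (⊤ : Subgroup (M ⧸ M₀)).lowerCentralSeries
      (fun i => (⊤ : Subgroup (M ⧸ M₀)).lowerCentralSeries_antitone (Nat.le_succ i)) (fun i hi => ?_) (m := n) ?_ hN
    · rw [Subgroup.lowerCentralSeries_succ _ (i + 1), hi, ← Subgroup.lowerCentralSeries_succ, hi]
    · rw [← hmap, show γ n = ⊥ from hn, Subgroup.map_bot]
  have hN0 : γ N ≤ M₀ := by
    rw [← hmap, Subgroup.map_eq_bot_iff, QuotientGroup.ker_mk'] at h0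
    exact h0
  let H : ℕ → Subgroup M := fun i => Nat.rec M₀ (fun _ K => clSub hM ⁅K, (⊤ : Subgroup M)⁆) i
  have hH : ∀ i, H (i + 1) = clSub hM ⁅H i, (⊤ : Subgroup M)⁆ := fun _ => rfl
  have hirr' : ∀ i, IsIrreducible (SetLike.coe (H i)) := by
    intro i
    induction i with
    | zero => exact hirr
    | succ i ih => rw [hH]; exact (isIrreducible_commutator hM _ _ ih).closure
  have hcl : ∀ i, IsClosed (SetLike.coe (H i)) := fun i => by cases i with
    | zero => exact hcl₀
    | succ i => exact isClosed_closure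
  have hle : ∀ i, H (i + 1) ≤ H i := by
    intro i
    induction i with
    | zero => exact closure_minimal (show ⁅M₀, (⊤ : Subgroup M)⁆ ≤ M₀ from Subgroup.commutator_le_left M₀ ⊤) hcl₀
    | succ i ih => exact clSub_mono hM (Subgroup.commutator_mono ih le_rfl)
  have hbot : H d = ⊥ := eq_bot_of_chain H hirr' hcl hle (fun i hi => by
    have key : ∀ m, H i ≤ clSub hM (γ m) := by
      intro m
      induction m with
      | zero => exact fun x _ => le_clSub hM _ (show x ∈ (⊤ : Subgroup M) from trivial)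
      | succ m ih =>
        rw [← hi, hH, hγ]
        exact clSub_le hM ((Subgroup.commutator_mono ih (le_clSub hM ⊤)).trans (commutator_clSub hM _ _))
    have := key n
    rwa [show γ n = ⊥ from hn, clSub_bot, le_bot_iff] at this) hd
  have hsub : ∀ i, γ (N + i) ≤ H i := by
    intro i
    induction i with
    | zero => exact hN0
    | succ i ih =>
      rw [← add_assoc, hγ, hH]
      exact (Subgroup.commutator_mono ih le_rfl).trans (le_clSub hM _)
  exact le_bot_iff.1 ((hsub d).trans hbot.le)

end Groth.Agent.SolvLocus20
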