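import Groth.Agent.Lib.SolvLocus20.Main

/-!
# Closedness and constructibility of the solvable and nilpotent loci
-/

set_option autoImplicit false
set_option linter.style.haveILetI false
set_option backward.isDefEq.respectTransparency false
set_option backward.isDefEq.respectTransparency.types false

universe u

open CategoryTheory Limits MonoidalCategory CartesianMonoidalCategory AlgebraicGeometry Topology
open scoped MonObj GrpObj

noncomputable section

namespace Groth.Agent.SolvLocus20

variable {S : Scheme.{u}} (G : Over S) [GrpObj G]

omit [GrpObj G] in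
theorem smooth_geomFibre (s : S) (h : Smooth (G.hom.fiberToSpecResidueField s)) : Smooth (Red.geomFibre s G).hom := by
  have hsq : IsPullback (pullback.lift (pullback.fst G.hom (Red.geomPt s))
      (pullback.snd G.hom (Red.geomPt s) ≫
        Spec.map (CommRingCat.ofHom (algebraMap (S.residueField s) (AlgebraicClosure (S.residueField s)))))
      (by rw [pullback.condition, Category.assoc]) : pullback G.hom (Red.geomPt s) ⟶ G.hom.fiber s)
      (pullback.snd G.hom (Red.geomPt s)) (G.hom.fiberToSpecResidueField s)
      (Spec.map (CommRingCat.ofHom (algebraMap (S.residueField s) (AlgebraicClosure (S.residueField s))))) :=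
    IsPullback.of_right (h₁₂ := pullback.fst G.hom (S.fromSpecResidueField s)) (by
      rw [pullback.lift_fst]; exact IsPullback.of_hasPullback G.hom (Red.geomPt s))
      (pullback.lift_snd _ _ _) (IsPullback.of_hasPullback G.hom (S.fromSpecResidueField s))
  exact MorphismProperty.of_isPullback (P := @Smooth) hsq h

/-- A property of points cut out, affine locally, by complements of open sets is closed. -/
theorem isClosed_of_local {P : S → Prop}
    (h : ∀ U : S.Opens, IsAffineOpen U → ∃ O : Set S, IsOpen O ∧ ∀ s ∈ U, (P s ↔ s ∉ O)) : IsClosed {s | P s} := by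
  rw [← isOpen_compl_iff, isOpen_iff_forall_mem_open]
  intro s hs
  obtain ⟨U, hU, hsU, -⟩ := exists_isAffineOpen_mem_and_subset (X := S) (x := s) (U := ⊤) trivial
  obtain ⟨O, hO, hP⟩ := h U hU
  exact ⟨O ∩ U, fun t ht hPt => (hP t ht.2).1 hPt ht.1, hO.inter U.2,
    by_contra fun hn => hs ((hP s hsU).2 fun hsO => hn ⟨hsO, hsU⟩)⟩

/-- A property of points cut out, affine locally, by locally constructible sets is locally constructible. -/
theorem isLocallyConstructible_of_local {P : S → Prop}
    (h : ∀ U : S.Opens, IsAffineOpen U → ∃ O : Set S, IsLocallyConstructible O ∧ ∀ s ∈ U, (P s ↔ s ∉ O)) :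
    IsLocallyConstructible {s | P s} := by
  refine IsLocallyConstructible.of_isOpenCover (iSup_affineOpens_eq_top S) fun U => ?_
  obtain ⟨O, hO, hP⟩ := h U.1 U.2
  have e : Subtype.val ⁻¹' {s | P s} = (Subtype.val ⁻¹' Oᶜ : Set ↥(U.1 : Set S)) := Set.ext fun s => hP s.1 s.2
  show IsLocallyConstructible (Subtype.val ⁻¹' {s | P s} : Set ↥(U.1 : Set S))
  rw [e]
  exact (isLocallyConstructible_compl hO).preimage_of_isOpenEmbedding U.1.2.isOpenEmbedding_subtypeVal

section

variable [LocallyOfFiniteType G.hom] [LocallyOfFinitePresentation G.hom] [QuasiCompact G.hom] [QuasiSeparated G.hom]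

theorem isClosed_solvable [Smooth G.hom] [IsSeparated G.hom] :
    IsClosed {s : S | Red.IsSolvableGrp (Red.geomFibre s G)} := by
  refine isClosed_of_local fun U hU => ?_
  obtain ⟨M, hM⟩ := exists_solWord (G := G) (fun s => inferInstanceAs (Smooth (pullback.snd G.hom (Red.geomPt s)))) hU
  haveI : Flat (solObj G M).hom := property_solObj @Flat G inferInstance M
  haveI : LocallyOfFinitePresentation (solObj G M).hom := property_solObj @LocallyOfFinitePresentation G inferInstance M
  exact ⟨_, isOpen_badSet (solWord G M), hM⟩

theorem isClosed_nilpotent [Smooth G.hom] [IsSeparated G.hom] :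
    IsClosed {s : S | AGF.IsNilpotentGrp (Red.geomFibre s G)} := by
  refine isClosed_of_local fun U hU => ?_
  obtain ⟨M, hM⟩ := exists_nilWord (G := G) (fun s => inferInstanceAs (Smooth (pullback.snd G.hom (Red.geomPt s)))) hU
  haveI : Flat (nilObj G M).hom := property_nilObj @Flat G inferInstance M
  haveI : LocallyOfFinitePresentation (nilObj G M).hom := property_nilObj @LocallyOfFinitePresentation G inferInstance M
  exact ⟨_, isOpen_badSet (nilWord G M), hM⟩

theorem isLocallyConstructible_solvable (hsm : ∀ s : S, Smooth (G.hom.fiberToSpecResidueField s)) :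
    IsLocallyConstructible {s : S | Red.IsSolvableGrp (Red.geomFibre s G)} := by
  refine isLocallyConstructible_of_local fun U hU => ?_
  obtain ⟨M, hM⟩ := exists_solWord (G := G) (fun s => smooth_geomFibre G s (hsm s)) hU
  haveI : QuasiCompact (solObj G M).hom := property_solObj @QuasiCompact G inferInstance M
  haveI : LocallyOfFinitePresentation (solObj G M).hom := property_solObj @LocallyOfFinitePresentation G inferInstance M
  exact ⟨_, isLocallyConstructible_badSet (solWord G M), hM⟩

theorem isLocallyConstructible_nilpotent (hsm : ∀ s : S, Smooth (G.hom.fiberToSpecResidueField s)) :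
    IsLocallyConstructible {s : S | AGF.IsNilpotentGrp (Red.geomFibre s G)} := by
  refine isLocallyConstructible_of_local fun U hU => ?_
  obtain ⟨M, hM⟩ := exists_nilWord (G := G) (fun s => smooth_geomFibre G s (hsm s)) hU
  haveI : QuasiCompact (nilObj G M).hom := property_nilObj @QuasiCompact G inferInstance M
  haveI : LocallyOfFinitePresentation (nilObj G M).hom := property_nilObj @LocallyOfFinitePresentation G inferInstance M
  exact ⟨_, isLocallyConstructible_badSet (nilWord G M), hM⟩

end

end Groth.Agent.SolvLocus20
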