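import Groth.Agent.Lib.SolvLocus20.Pts
import Groth.Agent.Lib.GeomSpread4.Count
import Groth.Agent.Lib.ConsTop3.Scheme
import Groth.Agent.Lib.ConsH13.IndCons
import Groth.Agent.Lib.FiniteMor15.FibreDim
import Groth.Agent.Lib.CurveLocus.GeomFibre
import Groth.Agent.Lib.GrpNeutral20.Gen
import Groth.Agent.Lib.SchBasic.Basic
import Groth.Prelude.Def_Red2
import Groth.Prelude.Def_AGF

/-!
# The loci of solvable and of nilpotent fibres
-/

set_option autoImplicit false
set_option linter.style.haveILetI false
set_option backward.isDefEq.respectTransparency false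
set_option backward.isDefEq.respectTransparency.types false

universe u

open CategoryTheory Limits MonoidalCategory CartesianMonoidalCategory AlgebraicGeometry Topology
open scoped MonObj GrpObj

noncomputable section

namespace Groth.Agent.SolvLocus20

variable {S : Scheme.{u}}

theorem isLocallyConstructible_compl {α : Type*} [TopologicalSpace α] {E : Set α} (h : IsLocallyConstructible E) :
    IsLocallyConstructible Eᶜ := fun x => by
  obtain ⟨U, hx, hU, hE⟩ := h x
  exact ⟨U, hx, hU, hE.compl⟩

/-- The geometric point over `s` as an object over `S`. -/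
abbrev geomObj (s : S) : Over S := Over.mk (Red.geomPt s)

theorem geomObj_hom_apply (s : S) (p : ↥(geomObj s).left) : (geomObj s).hom p = s := by
  show (Spec.map (CommRingCat.ofHom (algebraMap (S.residueField s) (AlgebraicClosure (S.residueField s)))) ≫
    S.fromSpecResidueField s) p = s
  rw [Scheme.Hom.comp_apply]
  exact S.fromSpecResidueField_apply s _

theorem eq_of_range (s : S) : ∀ p : ↥(geomObj s).left, p = IsLocalRing.closedPoint (AlgebraicClosure (S.residueField s)) :=
  fun p => Subsingleton.elim (α := PrimeSpectrum (AlgebraicClosure (S.residueField s))) p _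

/-- The section of the geometric fibre of the geometric point. -/
def diagPt (s : S) :
    𝟙_ (Over (Spec (CommRingCat.of (AlgebraicClosure (S.residueField s))))) ⟶
      (Over.pullback (Red.geomPt s)).obj (geomObj s) :=
  Over.homMk (pullback.lift (𝟙 _) (𝟙 _) rfl) (pullback.lift_snd _ _ _)

variable (G : Over S) [GrpObj G]

/-- Points over a geometric point are the rational points of the geometric fibre. -/
def ptsEquiv (s : S) : (geomObj s ⟶ G) ≃*
    (𝟙_ (Over (Spec (CommRingCat.of (AlgebraicClosure (S.residueField s))))) ⟶ Red.geomFibre s G) where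
  toFun g := diagPt s ≫ (Over.pullback (Red.geomPt s)).map g
  invFun x := Over.homMk (x.left ≫ pullback.fst G.hom (Red.geomPt s)) (by
    show (x.left ≫ pullback.fst G.hom (Red.geomPt s)) ≫ G.hom = Red.geomPt s
    rw [Category.assoc, pullback.condition, ← Category.assoc, show x.left ≫ pullback.snd _ _ = _ from Over.w x]
    exact Category.id_comp _)
  left_inv g := by
    ext
    simp [diagPt, geomObj]
    exact Category.id_comp _
  right_inv x := by
    ext : 1
    apply pullback.hom_ext
    · simp [diagPt, geomObj]
      exact Category.id_comp _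
    · have h : x.left ≫ pullback.snd G.hom (Red.geomPt s) = 𝟙 _ := Over.w x
      simp [diagPt, geomObj, h]
  map_mul' a b := by
    rw [Functor.map_mul, MonObj.comp_mul]

variable {G}

theorem fromSpecResidueField_unit (x : G.left) (s : S) (hx : η[G].left s = x) :
    G.left.fromSpecResidueField x ≫ G.hom ≫ η[G].left = G.left.fromSpecResidueField x := by
  subst hx
  have hid : η[G].left ≫ G.hom = 𝟙 S := Over.w η[G]
  haveI : IsIso (η[G].left.residueFieldMap s) := by
    refine (ConcreteCategory.isIso_iff_bijective _).2 ⟨RingHom.injective (η[G].left.residueFieldMap s).hom, fun b => ?_⟩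
    obtain ⟨a, rfl⟩ := S.residue_surjective s b
    haveI : IsClosedImmersion (η[G].left ≫ G.hom) := by rw [hid]; exact inferInstanceAs (IsClosedImmersion (𝟙 S))
    haveI : IsImmersion η[G].left := IsImmersion.of_comp η[G].left G.hom
    obtain ⟨a', rfl⟩ := η[G].left.stalkMap_surjective s a
    exact ⟨G.left.residue _ a', congr($(Scheme.residue_residueFieldMap η[G].left s) a')⟩
  refine (cancel_epi (Spec.map (η[G].left.residueFieldMap s))).1 ?_
  rw [Scheme.Hom.SpecMap_residueFieldMap_fromSpecResidueField_assoc, reassoc_of% hid,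
    Scheme.Hom.SpecMap_residueFieldMap_fromSpecResidueField]
  exact congrArg (_ ≫ ·) (Category.id_comp _)

/-- A field valued point with image on the unit section is the unit. -/
theorem eq_one_of_range {K : Type u} [Field K] {b : Spec (CommRingCat.of K) ⟶ S} (g : Over.mk b ⟶ G)
    (h : g.left (IsLocalRing.closedPoint K) ∈ Set.range η[G].left) : g = 1 := by
  obtain ⟨s, hs⟩ := h
  ext
  obtain ⟨⟨x, φ⟩, hφ⟩ := (Scheme.SpecToEquivOfField K G.left).symm.surjective g.left
  change Spec.map φ ≫ G.left.fromSpecResidueField x = g.left at hφ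
  have hx : g.left (IsLocalRing.closedPoint K) = x := by
    rw [← hφ, Scheme.Hom.comp_apply]
    exact G.left.fromSpecResidueField_apply x _
  have key : g.left ≫ G.hom ≫ η[G].left = g.left := by
    rw [← hφ, Category.assoc, fromSpecResidueField_unit x s (hs.trans hx)]
  have hb : b = g.left ≫ G.hom := (Over.w g).symm
  rw [Hom.one_def, Over.comp_left, show (toUnit (Over.mk b)).left = b from by simp]
  exact key.symm.trans ((Category.assoc _ _ _).symm.trans (congrArg (· ≫ η[G].left) hb.symm))

/-- A word vanishes on the points over a geometric point exactly when it maps the fibre to the unit section. -/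
theorem forall_pts_iff {Q : Over S} [LocallyOfFiniteType Q.hom] [LocallyOfFiniteType G.hom] (w : Q ⟶ G) (s : S) :
    (∀ t : geomObj s ⟶ Q, t ≫ w = 1) ↔ ∀ q : Q.left, Q.hom q = s → w.left q ∈ Set.range η[G].left := by
  constructor
  · intro h q hq
    let ψ := Red.geomPt s
    let F := pullback Q.hom ψ
    haveI : LocallyOfFiniteType (pullback.snd Q.hom ψ) := inferInstance
    haveI : JacobsonSpace F := LocallyOfFiniteType.jacobsonSpace (pullback.snd Q.hom ψ)
    have hσ : Spec.map (CommRingCat.ofHom (algebraMap (S.residueField s) (AlgebraicClosure (S.residueField s)))) ≫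
        S.fromSpecResidueField s = ψ := rfl
    obtain ⟨z, hz⟩ : q ∈ Set.range (pullback.fst Q.hom ψ) := by
      rw [Scheme.Pullback.range_fst]
      exact ⟨IsLocalRing.closedPoint _, (geomObj_hom_apply s _).trans hq.symm⟩
    -- the preimage of the unit point in the geometric fibre is closed
    let P := Over.pullback (S.fromSpecResidueField s)
    letI : GrpObj (P.obj G) := Functor.grpObjObj
    haveI : LocallyOfFiniteType (P.obj G).hom :=
      inferInstanceAs (LocallyOfFiniteType (pullback.snd G.hom (S.fromSpecResidueField s)))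
    let v : F ⟶ (P.obj G).left :=
      pullback.lift (pullback.fst Q.hom ψ ≫ w.left)
        (pullback.snd Q.hom ψ ≫ Spec.map (CommRingCat.ofHom (algebraMap (S.residueField s) (AlgebraicClosure (S.residueField s)))))
        (by rw [Category.assoc, Over.w w, pullback.condition, Category.assoc, hσ])
    have hu : pullback.fst G.hom (S.fromSpecResidueField s) (GrpField.unitPoint (P.obj G)) = η[G].left s := by
      refine (Scheme.Hom.comp_apply η[P.obj G].left (pullback.fst G.hom (S.fromSpecResidueField s))
        (IsLocalRing.closedPoint (S.residueField s))).symm.trans ?_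
      rw [show η[P.obj G].left ≫ pullback.fst G.hom (S.fromSpecResidueField s) =
        S.fromSpecResidueField s ≫ η[G].left from GrpNeutral20.unit_fst G (S.fromSpecResidueField s),
        Scheme.Hom.comp_apply]
      congr 1
      exact S.fromSpecResidueField_apply s _
    have hmem : ∀ y : F, v y = GrpField.unitPoint (P.obj G) ↔ w.left (pullback.fst Q.hom ψ y) = η[G].left s := by
      intro y
      have hv : pullback.fst G.hom (S.fromSpecResidueField s) (v y) = w.left (pullback.fst Q.hom ψ y) :=
        (Scheme.Hom.comp_apply v (pullback.fst G.hom (S.fromSpecResidueField s)) y).symm.trans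
          ((congrArg (fun r : F ⟶ G.left => r y) (pullback.lift_fst _ _ _)).trans
            (Scheme.Hom.comp_apply (pullback.fst Q.hom ψ) w.left y))
      rw [← hu]
      refine ⟨fun e => ?_, fun e => (G.hom.fiberι s).isEmbedding.injective (hv.trans e)⟩
      rw [← e]
      exact hv.symm
    have hall : v ⁻¹' {GrpField.unitPoint (P.obj G)} = Set.univ := by
      refine Set.eq_univ_iff_forall.2 ?_
      by_contra hne
      simp only [not_forall] at hne
      obtain ⟨y, hy, hyc⟩ := nonempty_inter_closedPoints (Z := (v ⁻¹' {GrpField.unitPoint (P.obj G)})ᶜ) hne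
        ((GrpField.isClosed_unitPoint (P.obj G)).preimage v.continuous).isOpen_compl.isLocallyClosed
      let x := pointOfClosedPoint (pullback.snd Q.hom ψ) y hyc
      let t : geomObj s ⟶ Q := Over.homMk (x ≫ pullback.fst Q.hom ψ) (by
        show (x ≫ pullback.fst Q.hom ψ) ≫ Q.hom = ψ
        rw [Category.assoc, pullback.condition, ← Category.assoc, pointOfClosedPoint_comp, Category.id_comp])
      refine hy ((hmem y).2 ?_)
      have e := congrArg (fun r : geomObj s ⟶ G => r.left (IsLocalRing.closedPoint _)) (h t)
      simp only [Over.comp_left, Scheme.Hom.comp_apply, Hom.one_def] at e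
      rw [show t.left (IsLocalRing.closedPoint _) = pullback.fst Q.hom ψ y from by
        simp [t, x]] at e
      rw [e]
      congr 1
      exact geomObj_hom_apply s _
    refine ⟨s, ?_⟩
    rw [← hz]
    exact ((hmem z).1 (hall.ge trivial)).symm
  · intro h t
    refine eq_one_of_range _ ?_
    rw [Over.comp_left, Scheme.Hom.comp_apply]
    refine h _ ?_
    rw [← Scheme.Hom.comp_apply, Over.w t]
    exact geomObj_hom_apply s _

variable (G) in
/-- The fibres on which a word is not identically one. -/
def badSet {Q : Over S} (w : Q ⟶ G) : Set S := Q.hom '' (w.left ⁻¹' Set.range η[G].left)ᶜ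

theorem forall_pts_iff_notMem {Q : Over S} [LocallyOfFiniteType Q.hom] [LocallyOfFiniteType G.hom] (w : Q ⟶ G)
    (s : S) : (∀ t : geomObj s ⟶ Q, t ≫ w = 1) ↔ s ∉ badSet G w := by
  rw [forall_pts_iff]
  exact ⟨fun h ⟨q, hq, e⟩ => hq (h q e), fun h q e => by_contra fun hq => h ⟨q, hq, e⟩⟩

theorem isOpen_badSet [IsSeparated G.hom] {Q : Over S} [Flat Q.hom] [LocallyOfFinitePresentation Q.hom]
    (w : Q ⟶ G) : IsOpen (badSet G w) := by
  haveI : IsClosedImmersion (η[G].left ≫ G.hom) := by rw [Over.w η[G]]; exact inferInstanceAs (IsClosedImmersion (𝟙 S))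
  haveI : IsClosedImmersion η[G].left := IsClosedImmersion.of_comp η[G].left G.hom
  exact Q.hom.isOpenMap _ (η[G].left.isClosedEmbedding.isClosed_range.preimage w.left.continuous).isOpen_compl

theorem isLocallyConstructible_badSet [QuasiSeparated G.hom] [LocallyOfFinitePresentation G.hom] {Q : Over S}
    [QuasiCompact Q.hom] [LocallyOfFinitePresentation Q.hom] (w : Q ⟶ G) :
    IsLocallyConstructible (badSet G w) := by
  haveI : LocallyOfFinitePresentation (η[G].left ≫ G.hom) := by
    rw [Over.w η[G]]; exact inferInstanceAs (LocallyOfFinitePresentation (𝟙 S))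
  haveI : LocallyOfFiniteType G.hom := inferInstance
  haveI : LocallyOfFinitePresentation η[G].left := SchBasic.locallyOfFinitePresentation_of_comp η[G].left G.hom
  haveI : QuasiCompact (η[G].left ≫ G.hom) := by rw [Over.w η[G]]; exact inferInstanceAs (QuasiCompact (𝟙 S))
  haveI : QuasiCompact η[G].left := QuasiCompact.of_comp η[G].left G.hom
  refine Q.hom.isLocallyConstructible_image (isLocallyConstructible_compl (ConsH13.isLocallyConstructible_preimage w.left ?_))
  rw [← Set.image_univ]
  exact η[G].left.isLocallyConstructible_image .univ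

section Bound

variable [LocallyOfFiniteType G.hom]

theorem isSolvable_iff (s : S) [Smooth (Red.geomFibre s G).hom] :
    Red.IsSolvableGrp (Red.geomFibre s G) ↔ ∃ n : ℕ, ∀ t : geomObj s ⟶ solObj G n, t ≫ solWord G n = 1 := by
  refine exists_congr fun n => ?_
  refine (forall_derivedSeries_pts (Red.geomFibre s G) n).trans ?_
  rw [← derivedSeries_iff, ← map_derivedSeries_eq (f := (ptsEquiv G s).toMonoidHom) (ptsEquiv G s).surjective,
    Subgroup.map_eq_bot_iff_of_injective _ (ptsEquiv G s).injective]

theorem isNilpotent_iff (s : S) [Smooth (Red.geomFibre s G).hom] :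
    AGF.IsNilpotentGrp (Red.geomFibre s G) ↔ ∃ n : ℕ, ∀ t : geomObj s ⟶ nilObj G n, t ≫ nilWord G n = 1 := by
  refine exists_congr fun n => ?_
  refine (forall_upperCentralSeries_pts (Red.geomFibre s G) n).trans ?_
  rw [← upperCentralSeries_iff, ← Subgroup.lowerCentralSeries_eq_bot_iff_upperCentralSeries_eq_top,
    ← Subgroup.lowerCentralSeries_eq_bot_iff_upperCentralSeries_eq_top,
    ← Subgroup.map_top_of_surjective (ptsEquiv G s).toMonoidHom (ptsEquiv G s).surjective,
    ← Subgroup.map_lowerCentralSeries, Subgroup.map_eq_bot_iff_of_injective _ (ptsEquiv G s).injective]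

variable [LocallyOfFinitePresentation G.hom] [QuasiCompact G.hom] [QuasiSeparated G.hom]

variable (G) in
/-- Numbers of components and dimensions of the geometric fibres are bounded over an affine open. -/
theorem exists_bounds {U : S.Opens} (hU : IsAffineOpen U) :
    ∃ N d : ℕ, ∀ s ∈ U, (irreducibleComponents (Red.geomFibre s G).left).encard ≤ N ∧
      topologicalKrullDim (Red.geomFibre s G).left ≤ (d : WithBot ℕ∞) := by
  haveI : IsAffine U.toScheme := hU
  let g := pullback.snd G.hom U.ι
  haveI : LocallyOfFinitePresentation g := inferInstance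
  haveI : CompactSpace ↥(pullback G.hom U.ι) := QuasiCompact.compactSpace_of_compactSpace g
  obtain ⟨d, hd⟩ := FiniteMor15.exists_bound g
  have hfin : ∀ s : U.toScheme, ∃ n : ℕ, MoreMor.nGeomIrredComp g s = n := by
    intro s
    let L := SeparableClosure (U.toScheme.residueField s)
    let t : Spec (CommRingCat.of L) ⟶ Spec (CommRingCat.of (U.toScheme.residueField s)) :=
      Spec.map (CommRingCat.ofHom (algebraMap (U.toScheme.residueField s) L))
    haveI : LocallyOfFiniteType (g.fiberToSpecResidueField s) :=
      inferInstanceAs (LocallyOfFiniteType (pullback.snd g (U.toScheme.fromSpecResidueField s)))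
    haveI : LocallyOfFiniteType (pullback.snd (g.fiberToSpecResidueField s) t) := inferInstance
    haveI : QuasiCompact (g.fiberToSpecResidueField s) :=
      inferInstanceAs (QuasiCompact (pullback.snd g (U.toScheme.fromSpecResidueField s)))
    haveI : QuasiCompact (pullback.snd (g.fiberToSpecResidueField s) t) := inferInstance
    haveI : IsLocallyNoetherian (MoreMor.geomFiber g s) :=
      LocallyOfFiniteType.isLocallyNoetherian (pullback.snd (g.fiberToSpecResidueField s) t)
    haveI : CompactSpace ↥(MoreMor.geomFiber g s) :=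
      QuasiCompact.compactSpace_of_compactSpace (pullback.snd (g.fiberToSpecResidueField s) t)
    haveI : IsNoetherian (MoreMor.geomFiber g s) := {}
    exact ⟨_, (TopologicalSpace.NoetherianSpace.finite_irreducibleComponents (α := MoreMor.geomFiber g s)).cast_ncard_eq.symm⟩
  obtain ⟨J, hJ⟩ := ConsTop3.exists_finite_inter_subset (X := U.toScheme) (E := (∅ : Set U.toScheme))
    (ConsTop3.isIndConstructible_of_isLocallyConstructible .empty)
    (fun n : ℕ => {s : U.toScheme | MoreMor.nGeomIrredComp g s = n}ᶜ)
    (fun n => ConsTop3.isProConstructible_of_isLocallyConstructible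
      (isLocallyConstructible_compl (GeomSpread4.isLocallyConstructible_count (fun {X Y} f y => MoreMor.nGeomIrredComp f y)
        (fun h y' => (GeomSpread4.count_baseChange h y').1)
        (fun f _ _ y => (GeomSpread4.exists_count_const f y).imp fun U h => ⟨h.1, fun y' hy' => (h.2 y' hy').1⟩) g n)))
    (fun s hs => by
      obtain ⟨n, hn⟩ := hfin s
      exact Set.mem_iInter.1 hs n hn)
  refine ⟨J.sup id, d, fun s hs => ?_⟩
  let ψ := Red.geomPt s
  let s' : U.toScheme := ⟨s, hs⟩
  constructor
  · obtain ⟨n, hnJ, hn⟩ : ∃ n ∈ J, MoreMor.nGeomIrredComp g s' = n := by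
      by_contra hne
      push_neg at hne
      exact hJ (Set.mem_iInter₂.2 fun n hn => hne n hn)
    have h1 := (GeomSpread4.count_baseChange (IsPullback.of_hasPullback G.hom U.ι) s').1
    have h2 := (GeomSpread4.count_point G.hom ψ).1
    rw [show ψ (IsLocalRing.closedPoint _) = s from geomObj_hom_apply s _] at h2
    show (irreducibleComponents ↥(pullback G.hom ψ)).encard ≤ _
    rw [← h2, ← show U.ι s' = s from rfl, ← h1, hn]
    exact Nat.cast_le.2 (Finset.le_sup (f := id) hnJ)
  · have hsq : IsPullback (pullback.lift (pullback.fst G.hom ψ)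
        (pullback.snd G.hom ψ ≫ Spec.map (CommRingCat.ofHom (algebraMap (S.residueField s) (AlgebraicClosure (S.residueField s)))))
        (by rw [pullback.condition, Category.assoc]) : pullback G.hom ψ ⟶ G.hom.fiber s)
        (pullback.snd G.hom ψ) (G.hom.fiberToSpecResidueField s)
        (Spec.map (CommRingCat.ofHom (algebraMap (S.residueField s) (AlgebraicClosure (S.residueField s))))) :=
      IsPullback.of_right (h₁₂ := pullback.fst G.hom (S.fromSpecResidueField s)) (by
        rw [pullback.lift_fst]
        exact IsPullback.of_hasPullback G.hom ψ)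
        (pullback.lift_snd _ _ _) (IsPullback.of_hasPullback G.hom (S.fromSpecResidueField s))
    haveI : LocallyOfFiniteType (G.hom.fiberToSpecResidueField s) :=
      inferInstanceAs (LocallyOfFiniteType (pullback.snd G.hom (S.fromSpecResidueField s)))
    show topologicalKrullDim ↥(pullback G.hom ψ) ≤ _
    refine ((CurveLocus.topologicalKrullDim_bc (G.hom.fiberToSpecResidueField s) hsq).trans ?_).le.trans (hd s')
    rw [(G.hom.fiberHomeo s).isHomeomorph.topologicalKrullDim_eq, (g.fiberHomeo s').isHomeomorph.topologicalKrullDim_eq]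
    let j : ↥(pullback G.hom U.ι) → G.left := pullback.fst G.hom U.ι
    have hj : IsOpenEmbedding j := (pullback.fst G.hom U.ι).isOpenEmbedding
    have himg : j '' (g ⁻¹' {s'}) = G.hom ⁻¹' {s} := by
      ext x
      constructor
      · rintro ⟨z, hz, rfl⟩
        show G.hom (pullback.fst G.hom U.ι z) = s
        rw [← Scheme.Hom.comp_apply, pullback.condition, Scheme.Hom.comp_apply, show g z = s' from hz]
        rfl
      · intro hx
        obtain ⟨z, rfl⟩ : x ∈ Set.range (pullback.fst G.hom U.ι) := by
          rw [Scheme.Pullback.range_fst, Scheme.Opens.range_ι]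
          show G.hom x ∈ U
          rw [show G.hom x = s from hx]; exact hs
        refine ⟨z, U.ι.isOpenEmbedding.injective ?_, rfl⟩
        rw [← Scheme.Hom.comp_apply, ← pullback.condition, Scheme.Hom.comp_apply]
        exact hx
    rw [← himg]
    exact ((hj.isEmbedding.homeomorphImage (g ⁻¹' {s'})).isHomeomorph.topologicalKrullDim_eq).symm

variable (hsm : ∀ s : S, Smooth (Red.geomFibre s G).hom)

include hsm in
/-- Over an affine open the solvable fibres are cut out by one word. -/
theorem exists_solWord {U : S.Opens} (hU : IsAffineOpen U) : ∃ M : ℕ, ∀ s ∈ U,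
    (Red.IsSolvableGrp (Red.geomFibre s G) ↔ s ∉ badSet G (solWord G M)) := by
  obtain ⟨N, d, h⟩ := exists_bounds G hU
  refine ⟨N + d, fun s hs => ?_⟩
  haveI := hsm s
  haveI : LocallyOfFiniteType (solObj G (N + d)).hom := property_solObj @LocallyOfFiniteType G inferInstance _
  rw [← forall_pts_iff_notMem, isSolvable_iff]
  refine ⟨fun hsol => ?_, fun hM => ⟨_, hM⟩⟩
  haveI : QuasiCompact (Red.geomFibre s G).hom := inferInstanceAs (QuasiCompact (pullback.snd G.hom (Red.geomPt s)))
  obtain ⟨n, hn⟩ := hsol
  rw [← derivedSeries_iff] at hn ⊢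
  have hn' := congrArg (Subgroup.map (ptsEquiv G s).toMonoidHom) hn
  rw [map_derivedSeries_eq (ptsEquiv G s).surjective, Subgroup.map_bot] at hn'
  have hM := derivedSeries_pts_bound (Red.geomFibre s G) (h s hs).1 (h s hs).2 ⟨n, hn'⟩
  rwa [← map_derivedSeries_eq (f := (ptsEquiv G s).toMonoidHom) (ptsEquiv G s).surjective,
    Subgroup.map_eq_bot_iff_of_injective _ (ptsEquiv G s).injective] at hM

include hsm in
/-- Over an affine open the nilpotent fibres are cut out by one word. -/
theorem exists_nilWord {U : S.Opens} (hU : IsAffineOpen U) : ∃ M : ℕ, ∀ s ∈ U,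
    (AGF.IsNilpotentGrp (Red.geomFibre s G) ↔ s ∉ badSet G (nilWord G M)) := by
  obtain ⟨N, d, h⟩ := exists_bounds G hU
  refine ⟨N + d, fun s hs => ?_⟩
  haveI := hsm s
  haveI : LocallyOfFiniteType (nilObj G (N + d)).hom := property_nilObj @LocallyOfFiniteType G inferInstance _
  rw [← forall_pts_iff_notMem, isNilpotent_iff]
  refine ⟨fun hsol => ?_, fun hM => ⟨_, hM⟩⟩
  haveI : QuasiCompact (Red.geomFibre s G).hom := inferInstanceAs (QuasiCompact (pullback.snd G.hom (Red.geomPt s)))
  obtain ⟨n, hn⟩ := hsol
  rw [← upperCentralSeries_iff, ← Subgroup.lowerCentralSeries_eq_bot_iff_upperCentralSeries_eq_top] at hn ⊢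
  have hn' := congrArg (Subgroup.map (ptsEquiv G s).toMonoidHom) hn
  rw [Subgroup.map_lowerCentralSeries, Subgroup.map_top_of_surjective _ (ptsEquiv G s).surjective, Subgroup.map_bot,
    Subgroup.lowerCentralSeries_eq_bot_iff_upperCentralSeries_eq_top] at hn'
  have hM := upperCentralSeries_pts_bound (Red.geomFibre s G) (h s hs).1 (h s hs).2 ⟨n, hn'⟩
  rwa [← Subgroup.lowerCentralSeries_eq_bot_iff_upperCentralSeries_eq_top,
    ← Subgroup.map_top_of_surjective (ptsEquiv G s).toMonoidHom (ptsEquiv G s).surjective,
    ← Subgroup.map_lowerCentralSeries, Subgroup.map_eq_bot_iff_of_injective _ (ptsEquiv G s).injective] at hM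

end Bound

end Groth.Agent.SolvLocus20
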