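import Groth.Agent.Lib.SolvLocus20.Word
import Groth.Agent.Lib.SolvLocus20.Chain
import Groth.Agent.Lib.GrpField.Component
import Groth.Agent.Lib.GrpField.Smooth
import Groth.Agent.Lib.AbRigid.Maximal
import Groth.Agent.Lib.AbRigid.Shear
import Groth.Agent.Lib.AbRigid.SmoothGI

/-!
# Derived length and class of algebraic groups over algebraically closed fields
-/

set_option autoImplicit false
set_option linter.style.haveILetI false
set_option backward.isDefEq.respectTransparency false
set_option backward.isDefEq.respectTransparency.types false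

universe u

open CategoryTheory Limits MonoidalCategory CartesianMonoidalCategory AlgebraicGeometry Topology
open scoped MonObj GrpObj commutatorElement

noncomputable section

namespace Groth.Agent.SolvLocus20

theorem property_solObj {S : Scheme.{u}} (P : MorphismProperty Scheme.{u}) [P.IsStableUnderComposition]
    [P.IsStableUnderBaseChange] (G : Over S) [GrpObj G] (h : P G.hom) : ∀ n, P (solObj G n).hom
  | 0 => h
  | n + 1 => by
    show P (pullback.fst (solObj G n).hom (solObj G n).hom ≫ (solObj G n).hom)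
    exact P.comp_mem _ _ (P.pullback_fst _ _ (property_solObj P G h n)) (property_solObj P G h n)

theorem property_nilObj {S : Scheme.{u}} (P : MorphismProperty Scheme.{u}) [P.IsStableUnderComposition]
    [P.IsStableUnderBaseChange] (G : Over S) [GrpObj G] (h : P G.hom) : ∀ n, P (nilObj G n).hom
  | 0 => h
  | n + 1 => by
    show P (pullback.fst (nilObj G n).hom G.hom ≫ (nilObj G n).hom)
    exact P.comp_mem _ _ (P.pullback_fst _ _ h) (property_nilObj P G h n)

variable {k : Type u} [Field k] [IsAlgClosed k]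

/-- The underlying point of a rational point. -/
def pt {X : Over (Spec (CommRingCat.of k))} (x : 𝟙_ (Over (Spec (CommRingCat.of k))) ⟶ X) : X.left := x.left (IsLocalRing.closedPoint k)

omit [IsAlgClosed k] in
theorem pt_comp {X Y : Over (Spec (CommRingCat.of k))} (x : 𝟙_ (Over (Spec (CommRingCat.of k))) ⟶ X) (c : X ⟶ Y) : pt (x ≫ c) = c.left (pt x) := by
  rw [pt, Over.comp_left, Scheme.Hom.comp_apply]; rfl

theorem pt_injective {X : Over (Spec (CommRingCat.of k))} [LocallyOfFiniteType X.hom] : Function.Injective (pt : (𝟙_ (Over (Spec (CommRingCat.of k))) ⟶ X) → _) :=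
  fun x y h => Over.OverMorphism.ext (ext_of_apply_closedPoint_eq X.hom (Over.w x) (Over.w y) h)

theorem exists_pt {X : Over (Spec (CommRingCat.of k))} [LocallyOfFiniteType X.hom] {z : X.left} (hz : IsClosed ({z} : Set X.left)) :
    ∃ x : 𝟙_ (Over (Spec (CommRingCat.of k))) ⟶ X, pt x = z := by
  refine ⟨Over.homMk (pointOfClosedPoint X.hom z hz) (by simp), ?_⟩
  simp [pt]

/-- Morphisms out of a smooth scheme are determined by rational points. -/
theorem hom_ext_pts {X Y : Over (Spec (CommRingCat.of k))} [Smooth X.hom] [LocallyOfFiniteType Y.hom] [IsSeparated Y.hom]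
    {f g : X ⟶ Y} (h : ∀ t : 𝟙_ (Over (Spec (CommRingCat.of k))) ⟶ X, t ≫ f = t ≫ g) : f = g := by
  haveI : IsReduced X.left := AbRigid.isReduced_of_smooth_over_field X.hom
  haveI : JacobsonSpace X.left := LocallyOfFiniteType.jacobsonSpace X.hom
  haveI : LocallyOfFiniteType (f.left ≫ Y.hom) := by rw [Over.w f]; infer_instance
  refine Over.OverMorphism.ext (ext_of_apply_eq Y.hom Set.univ isClosed_univ.isLocallyClosed dense_univ
    (fun z _ hz => ?_) (by rw [Over.w f, Over.w g]))
  obtain ⟨t, rfl⟩ := exists_pt (X := X) hz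
  rw [← pt_comp, ← pt_comp, h t]

variable (G : Over (Spec (CommRingCat.of k))) [GrpObj G]

theorem forall_derivedSeries_pts [Smooth G.hom] (n : ℕ) :
    (∀ X : Over (Spec (CommRingCat.of k)), derivedSeries (X ⟶ G) n = (⊥ : Subgroup (X ⟶ G))) ↔ derivedSeries (𝟙_ (Over (Spec (CommRingCat.of k))) ⟶ G) n = (⊥ : Subgroup (𝟙_ (Over (Spec (CommRingCat.of k))) ⟶ G)) := by
  refine ⟨fun h => h _, fun h => (forall_derivedSeries_iff G n).2 ?_⟩
  haveI : Smooth (solObj G n).hom := property_solObj @Smooth G inferInstance n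
  haveI := AbRigid.isSeparated_of_grpObj G
  refine hom_ext_pts fun t => ?_
  rw [(derivedSeries_iff G _ n).1 h t, MonObj.comp_one]

theorem forall_upperCentralSeries_pts [Smooth G.hom] (n : ℕ) :
    (∀ X : Over (Spec (CommRingCat.of k)), Subgroup.upperCentralSeries (X ⟶ G) n = (⊤ : Subgroup (X ⟶ G))) ↔
      Subgroup.upperCentralSeries (𝟙_ (Over (Spec (CommRingCat.of k))) ⟶ G) n = (⊤ : Subgroup (𝟙_ (Over (Spec (CommRingCat.of k))) ⟶ G)) := by
  refine ⟨fun h => h _, fun h => (forall_upperCentralSeries_iff G n).2 ?_⟩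
  haveI : Smooth (nilObj G n).hom := property_nilObj @Smooth G inferInstance n
  haveI := AbRigid.isSeparated_of_grpObj G
  refine hom_ext_pts fun t => ?_
  rw [(upperCentralSeries_iff G _ n).1 h t, MonObj.comp_one]

/-- The Zariski topology on rational points. -/
@[implicit_reducible]
def ptsTop : TopologicalSpace (𝟙_ (Over (Spec (CommRingCat.of k))) ⟶ G) := TopologicalSpace.induced pt inferInstance

attribute [local instance] ptsTop

theorem continuous_of_hom (c : G ⟶ G) {F : (𝟙_ (Over (Spec (CommRingCat.of k))) ⟶ G) → (𝟙_ (Over (Spec (CommRingCat.of k))) ⟶ G)} (hF : ∀ x, F x = x ≫ c) :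
    Continuous F := by
  refine continuous_induced_rng.2 ?_
  have e : pt ∘ F = fun x : 𝟙_ (Over (Spec (CommRingCat.of k))) ⟶ G => c.left (pt x) := by
    funext x
    rw [Function.comp_apply, hF, pt_comp]
  rw [e]
  exact c.left.continuous.comp continuous_induced_dom

theorem comp_toUnit_eq {A : Over (Spec (CommRingCat.of k))} (x : 𝟙_ (Over (Spec (CommRingCat.of k))) ⟶ A) (a : 𝟙_ (Over (Spec (CommRingCat.of k))) ⟶ G) : x ≫ toUnit A ≫ a = a := by
  rw [← Category.assoc, toUnit_unique (x ≫ toUnit A) (𝟙 _), Category.id_comp]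

theorem pt_one : pt (1 : 𝟙_ (Over (Spec (CommRingCat.of k))) ⟶ G) = GrpField.unitPoint G := by
  rw [Hom.one_def, toUnit_unique (toUnit (𝟙_ (Over (Spec (CommRingCat.of k))))) (𝟙 _), Category.id_comp]
  rfl

variable [LocallyOfFiniteType G.hom]

theorem zTop : ZTop (𝟙_ (Over (Spec (CommRingCat.of k))) ⟶ G) where
  left a := continuous_of_hom G ((toUnit G ≫ a) * 𝟙 G) fun x => by
    rw [MonObj.comp_mul, comp_toUnit_eq, Category.comp_id]
  right a := continuous_of_hom G (𝟙 G * (toUnit G ≫ a)) fun x => by
    rw [MonObj.comp_mul, comp_toUnit_eq, Category.comp_id]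
  inv := continuous_of_hom G (𝟙 G)⁻¹ fun x => by rw [GrpObj.comp_inv, Category.comp_id]
  comm y := continuous_of_hom G ⁅𝟙 G, toUnit G ≫ y⁆ fun x => by
    rw [comp_commutator, comp_toUnit_eq, Category.comp_id]
  one := by
    refine isClosed_induced_iff.2 ⟨_, GrpField.isClosed_unitPoint G, ?_⟩
    ext x
    rw [Set.mem_preimage, Set.mem_singleton_iff, Set.mem_singleton_iff, ← pt_one]
    exact pt_injective.eq_iff

theorem mapsTo_component (c : G ⟶ G) {x y : 𝟙_ (Over (Spec (CommRingCat.of k))) ⟶ G} (h : pt y ∈ connectedComponent (pt x)) :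
    pt (y ≫ c) ∈ connectedComponent (pt (x ≫ c)) := by
  rw [pt_comp, pt_comp]
  exact c.left.continuous.image_connectedComponent_subset _ ⟨_, h, rfl⟩

/-- The rational points of the neutral component. -/
def neutralPts : Subgroup (𝟙_ (Over (Spec (CommRingCat.of k))) ⟶ G) where
  carrier := pt ⁻¹' connectedComponent (GrpField.unitPoint G)
  one_mem' := by rw [Set.mem_preimage, pt_one]; exact mem_connectedComponent
  mul_mem' {a b} ha hb := by
    have ha' : connectedComponent (GrpField.unitPoint G) = connectedComponent (pt a) :=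
      connectedComponent_eq ha
    have hb' : pt b ∈ connectedComponent (pt (1 : 𝟙_ (Over (Spec (CommRingCat.of k))) ⟶ G)) := by rw [pt_one]; exact hb
    have h := mapsTo_component G ((toUnit G ≫ a) * 𝟙 G) hb'
    rw [MonObj.comp_mul, comp_toUnit_eq, Category.comp_id, MonObj.comp_mul, comp_toUnit_eq, Category.comp_id,
      mul_one] at h
    rw [Set.mem_preimage, ha']
    exact h
  inv_mem' {a} ha := by
    have ha' : pt a ∈ connectedComponent (pt (1 : 𝟙_ (Over (Spec (CommRingCat.of k))) ⟶ G)) := by rw [pt_one]; exact ha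
    have h := mapsTo_component G (𝟙 G)⁻¹ ha'
    rw [GrpObj.comp_inv, Category.comp_id, GrpObj.comp_inv, Category.comp_id, inv_one, pt_one] at h
    exact h

instance : (neutralPts G).Normal where
  conj_mem a ha g := by
    have ha' : pt a ∈ connectedComponent (pt (1 : 𝟙_ (Over (Spec (CommRingCat.of k))) ⟶ G)) := by rw [pt_one]; exact ha
    have h := mapsTo_component G ((toUnit G ≫ g) * 𝟙 G * (toUnit G ≫ g⁻¹)) ha'
    simp only [MonObj.comp_mul, comp_toUnit_eq, Category.comp_id] at h
    rw [mul_one, mul_inv_cancel, pt_one] at h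
    exact h

theorem isIrreducible_neutralPts : IsIrreducible (SetLike.coe (neutralPts G)) := by
  haveI : JacobsonSpace G.left := LocallyOfFiniteType.jacobsonSpace G.hom
  refine ⟨⟨1, one_mem _⟩, ?_⟩
  rintro _ _ ⟨U, hU, rfl⟩ ⟨V, hV, rfl⟩ ⟨x, hx, hxU⟩ ⟨y, hy, hyV⟩
  obtain ⟨z, hz⟩ := (GrpField.isIrreducible_connectedComponent G (GrpField.unitPoint G)).isPreirreducible U V hU hV
    ⟨_, hx, hxU⟩ ⟨_, hy, hyV⟩
  obtain ⟨w, hw, hwc⟩ := nonempty_inter_closedPoints
    (Z := connectedComponent (GrpField.unitPoint G) ∩ (U ∩ V)) ⟨z, hz⟩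
    ((GrpField.isOpen_connectedComponent G _).inter (hU.inter hV)).isLocallyClosed
  obtain ⟨t, rfl⟩ := exists_pt (X := G) hwc
  exact ⟨t, hw.1, hw.2⟩

theorem isClosed_neutralPts : IsClosed (SetLike.coe (neutralPts G)) :=
  isClosed_connectedComponent.preimage continuous_induced_dom

theorem quotient_finite [QuasiCompact G.hom] :
    Finite ((𝟙_ (Over (Spec (CommRingCat.of k))) ⟶ G) ⧸ neutralPts G) ∧
      Nat.card ((𝟙_ (Over (Spec (CommRingCat.of k))) ⟶ G) ⧸ neutralPts G) ≤ Nat.card ↥(irreducibleComponents G.left) := by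
  haveI : IsLocallyNoetherian G.left := LocallyOfFiniteType.isLocallyNoetherian G.hom
  haveI : CompactSpace G.left := QuasiCompact.compactSpace_of_compactSpace G.hom
  haveI : IsNoetherian G.left := {}
  haveI : Finite ↥(irreducibleComponents G.left) :=
    (TopologicalSpace.NoetherianSpace.finite_irreducibleComponents (α := G.left)).to_subtype
  have hcomp : ∀ z : G.left, connectedComponent z ∈ irreducibleComponents G.left := fun z =>
    ⟨GrpField.isIrreducible_connectedComponent G z, fun Z hZ hle =>
      hZ.isPreirreducible.isPreconnected.subset_connectedComponent (hle mem_connectedComponent)⟩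
  let φ : (𝟙_ (Over (Spec (CommRingCat.of k))) ⟶ G) ⧸ neutralPts G → ↥(irreducibleComponents G.left) :=
    fun q => ⟨connectedComponent (pt q.out), hcomp _⟩
  have hφ : Function.Injective φ := by
    intro q q' h
    have hmem : pt q'.out ∈ connectedComponent (pt q.out) := by
      rw [show connectedComponent (pt q.out) = connectedComponent (pt q'.out) from congrArg Subtype.val h]
      exact mem_connectedComponent
    have h' := mapsTo_component G ((toUnit G ≫ q.out⁻¹) * 𝟙 G) hmem
    simp only [MonObj.comp_mul, comp_toUnit_eq, Category.comp_id] at h'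
    rw [inv_mul_cancel, pt_one] at h'
    rw [← q.out_eq', ← q'.out_eq', QuotientGroup.eq]
    exact h'
  exact ⟨Finite.of_injective φ hφ, Nat.card_le_card_of_injective φ hφ⟩

variable [QuasiCompact G.hom] {N d : ℕ} (hN : (irreducibleComponents G.left).encard ≤ N)
  (hd : topologicalKrullDim G.left ≤ d)

include hN in
theorem card_components_le : Nat.card ↥(irreducibleComponents G.left) ≤ N := by
  rw [Nat.card_coe_set_eq]
  exact (Set.encard_le_coe_iff_finite_ncard_le.1 hN).2

include hN hd in
theorem derivedSeries_pts_bound (h : ∃ n : ℕ, derivedSeries (𝟙_ (Over (Spec (CommRingCat.of k))) ⟶ G) n = (⊥ : Subgroup (𝟙_ (Over (Spec (CommRingCat.of k))) ⟶ G))) :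
    derivedSeries (𝟙_ (Over (Spec (CommRingCat.of k))) ⟶ G) (N + d) = (⊥ : Subgroup (𝟙_ (Over (Spec (CommRingCat.of k))) ⟶ G)) := by
  haveI := (quotient_finite G).1
  exact derivedSeries_bound (zTop G) (neutralPts G) (isIrreducible_neutralPts G) (isClosed_neutralPts G)
    ((quotient_finite G).2.trans (card_components_le G hN))
    ((IsInducing.induced (pt : (𝟙_ (Over (Spec (CommRingCat.of k))) ⟶ G) → G.left)).topologicalKrullDim_le.trans hd) h

include hN hd in
theorem upperCentralSeries_pts_bound (h : ∃ n : ℕ, Subgroup.upperCentralSeries (𝟙_ (Over (Spec (CommRingCat.of k))) ⟶ G) n = (⊤ : Subgroup (𝟙_ (Over (Spec (CommRingCat.of k))) ⟶ G))) :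
    Subgroup.upperCentralSeries (𝟙_ (Over (Spec (CommRingCat.of k))) ⟶ G) (N + d) = (⊤ : Subgroup (𝟙_ (Over (Spec (CommRingCat.of k))) ⟶ G)) := by
  haveI := (quotient_finite G).1
  exact upperCentralSeries_bound (zTop G) (neutralPts G) (isIrreducible_neutralPts G) (isClosed_neutralPts G)
    ((quotient_finite G).2.trans (card_components_le G hN))
    ((IsInducing.induced (pt : (𝟙_ (Over (Spec (CommRingCat.of k))) ⟶ G) → G.left)).topologicalKrullDim_le.trans hd) h

end Groth.Agent.SolvLocus20
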