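import Mathlib.CategoryTheory.Monoidal.Cartesian.Grp
import Mathlib.GroupTheory.Solvable
import Mathlib.GroupTheory.Nilpotent

/-!
# Commutator words detecting derived length and nilpotency class
-/

set_option autoImplicit false

universe v u

open CategoryTheory MonoidalCategory CartesianMonoidalCategory
open scoped MonObj commutatorElement

noncomputable section

namespace Groth.Agent.SolvLocus20

section Abstract

variable (M : Type*) [Group M]

/-- The iterated commutators `w_n`. -/
def solSet : ℕ → Set M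
  | 0 => Set.univ
  | n + 1 => {x | ∃ a ∈ solSet n, ∃ b ∈ solSet n, ⁅a, b⁆ = x}

/-- The left normed commutators of weight `n + 1`. -/
def nilSet : ℕ → Set M
  | 0 => Set.univ
  | n + 1 => {x | ∃ a ∈ nilSet n, ∃ b, ⁅a, b⁆ = x}

theorem conj_solSet (n : ℕ) : ∀ x ∈ solSet M n, ∀ g : M, g * x * g⁻¹ ∈ solSet M n := by
  induction n with
  | zero => exact fun _ _ _ => trivial
  | succ n ih =>
    rintro _ ⟨a, ha, b, hb, rfl⟩ g
    exact ⟨_, ih a ha g, _, ih b hb g, (conjugate_commutatorElement a b g).symm⟩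

theorem closure_solSet (n : ℕ) : Subgroup.closure (solSet M n) = derivedSeries M n := by
  induction n with
  | zero => simp [solSet]
  | succ n ih =>
    rw [derivedSeries_succ, ← ih]
    apply le_antisymm
    · rw [Subgroup.closure_le]
      rintro _ ⟨a, ha, b, hb, rfl⟩
      exact Subgroup.commutator_mem_commutator (Subgroup.subset_closure ha) (Subgroup.subset_closure hb)
    · haveI hN : (Subgroup.closure (solSet M (n + 1))).Normal := by
        constructor
        intro x hx g
        induction hx using Subgroup.closure_induction with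
        | mem y hy => exact Subgroup.subset_closure (conj_solSet M (n + 1) y hy g)
        | one => simp
        | mul y z _ _ hy hz => simpa [mul_assoc] using Subgroup.mul_mem _ hy hz
        | inv y _ hy => simpa [mul_assoc] using Subgroup.inv_mem _ hy
      rw [Subgroup.commutator_le]
      intro x hx y hy
      rw [← QuotientGroup.eq_one_iff, ← QuotientGroup.mk'_apply, map_commutatorElement,
        commutatorElement_eq_one_iff_commute]
      have key : ∀ a ∈ solSet M n, ∀ b ∈ solSet M n,
          Commute (QuotientGroup.mk' (Subgroup.closure (solSet M (n + 1))) a)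
            (QuotientGroup.mk' (Subgroup.closure (solSet M (n + 1))) b) := fun a ha b hb => by
        rw [← commutatorElement_eq_one_iff_commute, ← map_commutatorElement, QuotientGroup.mk'_apply,
          QuotientGroup.eq_one_iff]
        exact Subgroup.subset_closure ⟨a, ha, b, hb, rfl⟩
      induction hx using Subgroup.closure_induction with
      | mem a ha =>
        induction hy using Subgroup.closure_induction with
        | mem b hb => exact key a ha b hb
        | one => simp
        | mul y z _ _ hy hz => rw [map_mul]; exact hy.mul_right hz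
        | inv y _ hy => rw [map_inv]; exact hy.inv_right
      | one => simp
      | mul y z _ _ hy' hz => rw [map_mul]; exact hy'.mul_left hz
      | inv y _ hy' => rw [map_inv]; exact hy'.inv_left

theorem derivedSeries_eq_bot_iff (n : ℕ) : derivedSeries M n = ⊥ ↔ ∀ x ∈ solSet M n, x = 1 := by
  rw [← closure_solSet, Subgroup.closure_eq_bot_iff]
  exact Iff.rfl

theorem nilSet_subset_iff (n : ℕ) : ∀ m, (nilSet M n ⊆ (Subgroup.upperCentralSeries M m : Set M)) ↔
    Subgroup.upperCentralSeries M (n + m) = ⊤ := by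
  induction n with
  | zero => simp [nilSet, Subgroup.eq_top_iff', Set.univ_subset_iff, Set.eq_univ_iff_forall]
  | succ n ih =>
    intro m
    rw [show n + 1 + m = n + (m + 1) by omega, ← ih]
    constructor
    · exact fun h a ha => Subgroup.mem_upperCentralSeries_succ_iff.2 fun y => h ⟨a, ha, y, rfl⟩
    · rintro h _ ⟨a, ha, y, rfl⟩
      exact Subgroup.mem_upperCentralSeries_succ_iff.1 (h ha) y

theorem upperCentralSeries_eq_top_iff (n : ℕ) :
    Subgroup.upperCentralSeries M n = ⊤ ↔ ∀ x ∈ nilSet M n, x = 1 := by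
  have h := nilSet_subset_iff M n 0
  rw [add_zero, Subgroup.upperCentralSeries_zero, Subgroup.coe_bot] at h
  exact h.symm

end Abstract

section Obj

variable {C : Type u} [Category.{v} C] [CartesianMonoidalCategory C] (G : C) [GrpObj G]

/-- The variables of the word `w_n`. -/
def solObj : ℕ → C
  | 0 => G
  | n + 1 => solObj n ⊗ solObj n

/-- The word `w_n`. -/
def solWord : (n : ℕ) → (solObj G n ⟶ G)
  | 0 => 𝟙 G
  | n + 1 => (⁅(fst (solObj G n) (solObj G n) ≫ solWord n : solObj G n ⊗ solObj G n ⟶ G),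
      (snd (solObj G n) (solObj G n) ≫ solWord n : solObj G n ⊗ solObj G n ⟶ G)⁆ : solObj G n ⊗ solObj G n ⟶ G)

/-- The variables of the left normed word. -/
def nilObj : ℕ → C
  | 0 => G
  | n + 1 => nilObj n ⊗ G

/-- The left normed word. -/
def nilWord : (n : ℕ) → (nilObj G n ⟶ G)
  | 0 => 𝟙 G
  | n + 1 => (⁅(fst (nilObj G n) G ≫ nilWord n : nilObj G n ⊗ G ⟶ G), (snd (nilObj G n) G : nilObj G n ⊗ G ⟶ G)⁆ :
      nilObj G n ⊗ G ⟶ G)

theorem comp_commutator {X Y : C} (t : X ⟶ Y) (a b : Y ⟶ G) : t ≫ ⁅a, b⁆ = ⁅t ≫ a, t ≫ b⁆ := by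
  simp only [commutatorElement_def, MonObj.comp_mul, GrpObj.comp_inv]

theorem mem_solSet_iff (X : C) (n : ℕ) :
    ∀ x : X ⟶ G, x ∈ solSet (X ⟶ G) n ↔ ∃ t : X ⟶ solObj G n, t ≫ solWord G n = x := by
  induction n with
  | zero => exact fun x => ⟨fun _ => ⟨x, Category.comp_id x⟩, fun _ => trivial⟩
  | succ n ih =>
    intro x
    constructor
    · rintro ⟨a, ha, b, hb, rfl⟩
      obtain ⟨t₁, rfl⟩ := (ih a).1 ha
      obtain ⟨t₂, rfl⟩ := (ih b).1 hb
      refine ⟨lift t₁ t₂, ?_⟩
      rw [solWord]
      refine (comp_commutator G (lift t₁ t₂) _ _).trans ?_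
      rw [lift_fst_assoc, lift_snd_assoc]
    · rintro ⟨t, rfl⟩
      exact ⟨_, (ih _).2 ⟨t ≫ fst _ _, rfl⟩, _, (ih _).2 ⟨t ≫ snd _ _, rfl⟩, by
        rw [solWord, Category.assoc, Category.assoc]
        exact (comp_commutator G t _ _).symm⟩

theorem mem_nilSet_iff (X : C) (n : ℕ) :
    ∀ x : X ⟶ G, x ∈ nilSet (X ⟶ G) n ↔ ∃ t : X ⟶ nilObj G n, t ≫ nilWord G n = x := by
  induction n with
  | zero => exact fun x => ⟨fun _ => ⟨x, Category.comp_id x⟩, fun _ => trivial⟩
  | succ n ih =>
    intro x
    constructor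
    · rintro ⟨a, ha, b, rfl⟩
      obtain ⟨t₁, rfl⟩ := (ih a).1 ha
      refine ⟨lift t₁ b, ?_⟩
      rw [nilWord]
      refine (comp_commutator G (lift t₁ b) _ _).trans ?_
      rw [lift_fst_assoc, lift_snd]
    · rintro ⟨t, rfl⟩
      exact ⟨_, (ih _).2 ⟨t ≫ fst _ _, rfl⟩, t ≫ snd _ _, by
        rw [nilWord, Category.assoc]
        exact (comp_commutator G t _ _).symm⟩

theorem derivedSeries_iff (X : C) (n : ℕ) :
    derivedSeries (X ⟶ G) n = ⊥ ↔ ∀ t : X ⟶ solObj G n, t ≫ solWord G n = 1 := by
  rw [derivedSeries_eq_bot_iff]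
  exact ⟨fun h t => h _ ((mem_solSet_iff G X n _).2 ⟨t, rfl⟩), fun h x hx => by
    obtain ⟨t, rfl⟩ := (mem_solSet_iff G X n x).1 hx; exact h t⟩

theorem upperCentralSeries_iff (X : C) (n : ℕ) :
    Subgroup.upperCentralSeries (X ⟶ G) n = ⊤ ↔ ∀ t : X ⟶ nilObj G n, t ≫ nilWord G n = 1 := by
  rw [upperCentralSeries_eq_top_iff]
  exact ⟨fun h t => h _ ((mem_nilSet_iff G X n _).2 ⟨t, rfl⟩), fun h x hx => by
    obtain ⟨t, rfl⟩ := (mem_nilSet_iff G X n x).1 hx; exact h t⟩

theorem forall_derivedSeries_iff (n : ℕ) :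
    (∀ X : C, derivedSeries (X ⟶ G) n = ⊥) ↔ solWord G n = 1 := by
  simp only [derivedSeries_iff]
  exact ⟨fun h => (Category.id_comp _).symm.trans (h _ (𝟙 _)), fun h X t => by rw [h, MonObj.comp_one]⟩

theorem forall_upperCentralSeries_iff (n : ℕ) :
    (∀ X : C, Subgroup.upperCentralSeries (X ⟶ G) n = ⊤) ↔ nilWord G n = 1 := by
  simp only [upperCentralSeries_iff]
  exact ⟨fun h => (Category.id_comp _).symm.trans (h _ (𝟙 _)), fun h X t => by rw [h, MonObj.comp_one]⟩

end Obj

end Groth.Agent.SolvLocus20
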